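/-
Cohomology and filtered colimits for a topos with a generating class of quasi-compact objects.
-/
import Groth.Agent.CohLib.GoodCech
import Groth.Agent.CohLib.Objects

set_option autoImplicit false
set_option backward.isDefEq.respectTransparency false
set_option linter.style.haveILetI false
set_option linter.deprecated false
set_option linter.unusedSectionVars false

universe u

open CategoryTheory CategoryTheory.Limits CategoryTheory.Abelian Opposite Simplicial ToposFin CohLib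

namespace Groth.Agent.QCGenColimLib

variable {C : Type u} [SmallCategory C] {J : GrothendieckTopology C}

/-- A class of objects with covers, fibre products, and good behaviour for filtered colimits. -/
structure GoodClass (J : GrothendieckTopology C) where
  /-- the class -/
  P : Sheaf J (Type u) → Prop
  of_iso : ∀ {L L'}, (L ≅ L') → P L → P L'
  cover : ∀ {L T : Sheaf J (Type u)} (g : T ⟶ L), Epi g → P L →
    ∃ (Q : Sheaf J (Type u)) (m : Q ⟶ T), P Q ∧ Epi (m ≫ g)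
  pullback : ∀ {A B L : Sheaf J (Type u)} (a : A ⟶ L) (b : B ⟶ L), P A → P B → P L → P (pullback a b)
  lift : ∀ {L : Sheaf J (Type u)}, P L → ∀ {Λ : Type u} [SmallCategory Λ] [IsFiltered Λ]
    (D : Λ ⥤ Sheaf J AddCommGrpCat.{u}) (t : (Z J).obj L ⟶ colimit D),
    ∃ (i : Λ) (s : (Z J).obj L ⟶ D.obj i), s ≫ colimit.ι D i = t
  zero : ∀ {L : Sheaf J (Type u)}, P L → ∀ {Λ : Type u} [SmallCategory Λ] [IsFiltered Λ]
    (D : Λ ⥤ Sheaf J AddCommGrpCat.{u}) (i : Λ) (s : (Z J).obj L ⟶ D.obj i), s ≫ colimit.ι D i = 0 →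
    ∃ (j : Λ) (φ : i ⟶ j), s ≫ D.map φ = 0

variable (G : GoodClass J)

/-- Čech exactness along covers in the class. -/
def GoodCechExact (F : Sheaf J AddCommGrpCat.{u}) : Prop :=
  ∀ (K' K : Sheaf J (Type u)) (f : K' ⟶ K), Epi f → G.P K' → G.P K → ∀ q, CechExact f F q

lemma good_widePullback {K' K : Sheaf J (Type u)} (f : K' ⟶ K) (h' : G.P K') (h : G.P K) (n : ℕ) :
    G.P (widePullback K (fun _ : Fin (n + 1) => K') (fun _ => f)) := by
  induction n with
  | zero =>
    refine G.of_iso ⟨WidePullback.lift f (fun _ => 𝟙 K') (fun _ => Category.id_comp f),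
      WidePullback.π (fun _ : Fin 1 => f) 0, WidePullback.lift_π _ _ _ _ _, ?_⟩ h'
    refine WidePullback.hom_ext _ _ _ (fun i => ?_) ?_
    · rw [Category.assoc, WidePullback.lift_π, Category.comp_id, Category.id_comp, Fin.fin_one_eq_zero i]
    · rw [Category.assoc, WidePullback.lift_base, WidePullback.π_arrow, Category.id_comp]
  | succ n ih => exact G.of_iso (CohLib.isPullback_widePullback f n).isoPullback.symm (G.pullback _ _ h' ih h)

lemma good_nerve {K' K : Sheaf J (Type u)} (f : K' ⟶ K) (h' : G.P K') (h : G.P K) (n : ℕ) :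
    G.P ((Arrow.mk f).cechNerve.obj (op ⦋n⦌)) := good_widePullback G f h' h n

/-- The Cartan criterion in degree one. -/
lemma subsingleton_ext_one_of_goodCechExact {F : Sheaf J AddCommGrpCat.{u}} (h : GoodCechExact G F)
    {K : Sheaf J (Type u)} (hK : G.P K) : Subsingleton (CohCx.HK K F 1) := by
  have hS := injSC_shortExact F
  haveI : Subsingleton (Abelian.Ext ((Z J).obj K) (injSC F).X₂ 1) :=
    subsingleton_ext_injective _ (Injective.under F) 0
  refine subsingleton_ext_one_of_lift hS (X := (Z J).obj K) fun s => ?_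
  let π := (injSC F).g
  haveI : Epi π := hS.epi_g
  haveI : Mono (injSC F).f := hS.mono_f
  let π' := (sheafCompose J (forget AddCommGrpCat.{u})).map π
  haveI : Epi π' := epi_forget_map π
  let s' := (adjZ J).homEquiv _ _ s
  obtain ⟨Q, m, hQ, hm⟩ := G.cover (pullback.fst s' π') (epi_pullback_fst s' π') hK
  let g : Q ⟶ K := m ≫ pullback.fst s' π'
  haveI : Epi g := hm
  let t : (Z J).obj Q ⟶ (injSC F).X₂ :=
    ((adjZ J).homEquiv _ _).symm (m ≫ pullback.snd s' π')
  have ht : t ≫ π = (Z J).map g ≫ s := by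
    refine ((adjZ J).homEquiv _ _).injective ?_
    rw [Adjunction.homEquiv_naturality_right, Adjunction.homEquiv_naturality_left,
      Equiv.apply_symm_apply, Category.assoc, Category.assoc]
    exact congrArg (m ≫ ·) pullback.condition.symm
  obtain ⟨t₀, ht₀⟩ : ∃ t₀ : (nerveCx g).X 0 ⟶ (injSC F).X₂,
      t₀ ≫ (injSC F).g = nerveAug g ≫ s :=
    ⟨(Z J).map (WidePullback.π (fun _ : Fin 1 => g) 0) ≫ t, by
      unfold nerveAug
      exact (Category.assoc _ _ _).trans
        ((congrArg (_ ≫ ·) ht).trans (Category.assoc _ _ _).symm)⟩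
  have hx : ((nerveCx g).d 1 0 ≫ t₀) ≫ (injSC F).g = 0 := by
    rw [Category.assoc, ht₀, ← Category.assoc, d_comp_nerveAug, zero_comp]
  let x := hS.exact.lift ((nerveCx g).d 1 0 ≫ t₀) hx
  have hx' : x ≫ (injSC F).f = (nerveCx g).d 1 0 ≫ t₀ := hS.exact.lift_f _ hx
  obtain ⟨y, hy⟩ := h Q K g inferInstance hQ hK 0 x (by
    rw [← cancel_mono (injSC F).f, Category.assoc, hx', ← Category.assoc,
      HomologicalComplex.d_comp_d, zero_comp, zero_comp])
  obtain ⟨s₁, hs₁⟩ := exists_aug g (t₀ - y ≫ (injSC F).f) (by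
    rw [Preadditive.comp_sub, ← hx', ← hy, Category.assoc, sub_self])
  refine ⟨s₁, ?_⟩
  rw [← cancel_epi (nerveAug g), ← Category.assoc, hs₁, Preadditive.sub_comp, Category.assoc,
    ShortComplex.zero, comp_zero, sub_zero]
  exact ht₀

/-- The quotient step. -/
lemma goodCechExact_quotient {S : ShortComplex (Sheaf J AddCommGrpCat.{u})} (hS : S.ShortExact)
    (h₁ : GoodCechExact G S.X₁) (h₂ : GoodCechExact G S.X₂) : GoodCechExact G S.X₃ := by
  intro K' K f hf hK' hK q x hx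
  haveI := hS.mono_f
  haveI : Subsingleton (Abelian.Ext ((nerveCx f).X (q + 1)) S.X₁ 1) :=
    subsingleton_ext_one_of_goodCechExact G h₁ (good_nerve G f hK' hK (q + 1))
  obtain ⟨x', rfl⟩ := exists_lift_of_subsingleton_ext_one hS x
  have hw : ((nerveCx f).d (q + 2) (q + 1) ≫ x') ≫ S.g = 0 := by rw [Category.assoc, hx]
  obtain ⟨v, hv⟩ := h₁ K' K f hf hK' hK (q + 1) (hS.exact.lift _ hw) (by
    rw [← cancel_mono S.f, Category.assoc, hS.exact.lift_f, ← Category.assoc,
      HomologicalComplex.d_comp_d, zero_comp, zero_comp])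
  obtain ⟨y, hy⟩ := h₂ K' K f hf hK' hK q (x' - v ≫ S.f) (by
    rw [Preadditive.comp_sub, ← Category.assoc _ v, hv, hS.exact.lift_f, sub_self])
  refine ⟨y ≫ S.g, ?_⟩
  rw [← Category.assoc, hy, Preadditive.sub_comp, Category.assoc, S.zero, comp_zero, sub_zero]

/-- The Cartan criterion on a good class. -/
theorem subsingleton_HK_of_goodCechExact {F : Sheaf J AddCommGrpCat.{u}} (h : GoodCechExact G F)
    {K : Sheaf J (Type u)} (hK : G.P K) (p : ℕ) : Subsingleton (CohCx.HK K F (p + 1)) := by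
  induction p generalizing F K with
  | zero => exact subsingleton_ext_one_of_goodCechExact G h hK
  | succ p ih =>
    have hS := injSC_shortExact F
    haveI : Subsingleton (Abelian.Ext ((Z J).obj K) (injSC F).X₂ (p + 1 + 1)) :=
      subsingleton_ext_injective _ (Injective.under F) _
    haveI : Subsingleton (Abelian.Ext ((Z J).obj K) (injSC F).X₃ (p + 1)) :=
      ih (F := (injSC F).X₃) (goodCechExact_quotient G hS h
        (fun K' L g hg _ _ q => allCechExact_of_injective (Injective.under F) K' L g hg q)) hK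
    exact subsingleton_ext_of_shift hS (X := (Z J).obj K) (n := p + 1)

include G in
/-- Filtered colimits of injective sheaves are Čech exact on the class. -/
theorem goodCechExact_colimit {Λ : Type u} [SmallCategory Λ] [IsFiltered Λ]
    (I : Λ ⥤ Sheaf J AddCommGrpCat.{u}) (hI : ∀ i, Injective (I.obj i)) :
    GoodCechExact G (colimit I) := by
  intro K' K f hf hK' hK q x hx
  obtain ⟨i, s, rfl⟩ := G.lift (good_nerve G f hK' hK (q + 1)) I x
  obtain ⟨j, φ, hj⟩ := G.zero (good_nerve G f hK' hK (q + 2)) I i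
    ((nerveCx f).d (q + 2) (q + 1) ≫ s) ((Category.assoc _ _ _).trans hx)
  haveI := hI j
  obtain ⟨y, hy⟩ := allCechExact_of_injective (I.obj j) K' K f hf q (s ≫ I.map φ)
    ((Category.assoc _ _ _).symm.trans hj)
  refine ⟨y ≫ colimit.ι I j, ?_⟩
  rw [← Category.assoc, hy, Category.assoc, colimit.w]

include G in
/-- Cohomology with respect to an object of the class commutes with filtered colimits. -/
theorem extComm_Z {K : Sheaf J (Type u)} (hK : G.P K) (Λ : Type u) [SmallCategory Λ] [IsFiltered Λ] (q : ℕ) :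
    FiltExtLib.ExtComm ((Z J).obj K) Λ q :=
  FiltExtLib.extComm_of_acyclic (fun D t => G.lift hK D t) (fun D i s h => G.zero hK D i s h)
    (fun p I hI => subsingleton_HK_of_goodCechExact G (goodCechExact_colimit G I hI) hK p) q

section OfGenerators

open ToposFinLib

variable {S : Set (Sheaf J (Type u))}
  (h2 : ∀ (F : Sheaf J (Type u)) (K : Sheaf J (Type u)) (g : F ⟶ K), K ∈ S → Epi g →
      ∃ (K' : Sheaf J (Type u)) (k : K' ⟶ F), K' ∈ S ∧ Epi (k ≫ g))
  (h3 : ∀ K ∈ S, ∀ K' ∈ S, ∃ (K'' : Sheaf J (Type u)) (g : K'' ⟶ K ⨯ K'), K'' ∈ S ∧ Epi g)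
  (h4 : ∀ K ∈ S, ∀ K' ∈ S, ∀ (a b : K ⟶ K'),
      ∃ (K'' : Sheaf J (Type u)) (g : K'' ⟶ equalizer a b), K'' ∈ S ∧ Epi g)
  (h5 : ∀ K ∈ S, IsQC K)

lemma epi_pb_fst {X Y L : Sheaf J (Type u)} (f : X ⟶ L) (g : Y ⟶ L) [Epi g] : Epi (pullback.fst f g) :=
  epi_pullback_fst f g

lemma epi_pb_snd {X Y L : Sheaf J (Type u)} (f : X ⟶ L) (g : Y ⟶ L) [Epi f] : Epi (pullback.snd f g) := by
  rw [← pullbackSymmetry_hom_comp_fst f g]
  haveI := epi_pullback_fst g f
  exact epi_comp _ _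

/-- Covered by a member, with all fibre products of members covered by members. -/
def Cov (S : Set (Sheaf J (Type u))) (L : Sheaf J (Type u)) : Prop :=
  (∃ (E : Sheaf J (Type u)) (e : E ⟶ L), E ∈ S ∧ Epi e) ∧
    ∀ E ∈ S, ∀ E' ∈ S, ∀ (a : E ⟶ L) (b : E' ⟶ L),
      ∃ (K : Sheaf J (Type u)) (g : K ⟶ pullback a b), K ∈ S ∧ Epi g

include h3 h4 in
lemma cov_mem {L : Sheaf J (Type u)} (hL : L ∈ S) : Cov S L := by
  refine ⟨⟨L, 𝟙 L, hL, inferInstance⟩, fun E hE E' hE' a b => ?_⟩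
  obtain ⟨K, g, hK, hg⟩ := h3 E hE E' hE'
  obtain ⟨K', g', hK', hg'⟩ := h4 K hK L hL (g ≫ prod.fst ≫ a) (g ≫ prod.snd ≫ b)
  let φ : equalizer (g ≫ prod.fst ≫ a) (g ≫ prod.snd ≫ b) ⟶ pullback a b :=
    pullback.lift (equalizer.ι _ _ ≫ g ≫ prod.fst) (equalizer.ι _ _ ≫ g ≫ prod.snd)
      (by simpa only [Category.assoc] using equalizer.condition (g ≫ prod.fst ≫ a) (g ≫ prod.snd ≫ b))
  let j : pullback a b ⟶ E ⨯ E' := prod.lift (pullback.fst a b) (pullback.snd a b)
  have hw : pullback.fst g j ≫ g ≫ prod.fst ≫ a = pullback.fst g j ≫ g ≫ prod.snd ≫ b := by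
    rw [pullback.condition_assoc, pullback.condition_assoc, prod.lift_fst_assoc, prod.lift_snd_assoc,
      pullback.condition]
  haveI := epi_pb_snd g j
  haveI : Epi φ := epi_of_epi_fac (f := equalizer.lift (pullback.fst g j) hw) (h := pullback.snd g j) (by
    apply pullback.hom_ext
    · simp [φ, pullback.condition_assoc, j]
    · simp [φ, pullback.condition_assoc, j])
  exact ⟨K', g' ≫ φ, hK', epi_comp _ _⟩

include h2 h3 h4 in
lemma cov_cover {L T : Sheaf J (Type u)} (g : T ⟶ L) (hg : Epi g) (hL : Cov S L) :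
    ∃ (Q : Sheaf J (Type u)) (m : Q ⟶ T), Cov S Q ∧ Epi (m ≫ g) := by
  obtain ⟨⟨E, e, hE, he⟩, -⟩ := hL
  haveI := epi_pb_snd g e
  obtain ⟨K', k, hK', hk⟩ := h2 (pullback g e) E (pullback.snd g e) hE inferInstance
  refine ⟨K', k ≫ pullback.fst g e, cov_mem h3 h4 hK', ?_⟩
  rw [Category.assoc, pullback.condition, ← Category.assoc]
  exact epi_comp _ _

set_option maxHeartbeats 1000000 in
include h3 h4 in
lemma cov_pullback {A B L : Sheaf J (Type u)} (a : A ⟶ L) (b : B ⟶ L) (hA : Cov S A) (hB : Cov S B)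
    (hL : Cov S L) : Cov S (pullback a b) := by
  constructor
  · obtain ⟨EA, eA, hEA, heA⟩ := hA.1
    obtain ⟨EB, eB, hEB, heB⟩ := hB.1
    obtain ⟨K, g, hK, hg⟩ := hL.2 EA hEA EB hEB (eA ≫ a) (eB ≫ b)
    let φ : pullback (eA ≫ a) (eB ≫ b) ⟶ pullback a b :=
      pullback.lift (pullback.fst _ _ ≫ eA) (pullback.snd _ _ ≫ eB)
        (by simpa only [Category.assoc] using pullback.condition)
    let pA := pullback.fst (pullback.fst a b) eA
    let pB := pullback.fst (pullback.snd a b) eB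
    haveI : Epi pA := epi_pb_fst _ _
    haveI : Epi pB := epi_pb_fst _ _
    haveI : Epi (pullback.fst pA pB) := epi_pb_fst _ _
    have hw : (pullback.fst pA pB ≫ pullback.snd _ eA) ≫ eA ≫ a =
        (pullback.snd pA pB ≫ pullback.snd _ eB) ≫ eB ≫ b := by
      simp only [Category.assoc]
      rw [← pullback.condition_assoc, ← pullback.condition_assoc, pullback.condition (f := a) (g := b)]
      exact congrArg (· ≫ pullback.snd a b ≫ b) pullback.condition
    haveI : Epi φ := epi_of_epi_fac (f := pullback.lift _ _ hw) (h := pullback.fst pA pB ≫ pA) (by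
      apply pullback.hom_ext
      · simp only [φ, Category.assoc, pullback.lift_fst, pullback.lift_fst_assoc, pA]
        rw [← pullback.condition]
      · simp only [φ, Category.assoc, pullback.lift_snd, pullback.lift_snd_assoc]
        rw [← pullback.condition]
        exact (congrArg (· ≫ pullback.snd a b) pullback.condition).symm.trans (Category.assoc _ _ _))
    exact ⟨K, g ≫ φ, hK, epi_comp _ _⟩
  · intro E hE E' hE' c d
    obtain ⟨K₁, g₁, hK₁, hg₁⟩ := hA.2 E hE E' hE' (c ≫ pullback.fst a b) (d ≫ pullback.fst a b)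
    obtain ⟨K₂, g₂, hK₂, hg₂⟩ := hB.2 E hE E' hE' (c ≫ pullback.snd a b) (d ≫ pullback.snd a b)
    let x₁ := g₁ ≫ pullback.fst _ _
    let y₁ := g₁ ≫ pullback.snd _ _
    let x₂ := g₂ ≫ pullback.fst _ _
    let y₂ := g₂ ≫ pullback.snd _ _
    obtain ⟨K₃, g₃, hK₃, hg₃⟩ := (cov_mem h3 h4 hE).2 K₁ hK₁ K₂ hK₂ x₁ x₂
    let u₁ := g₃ ≫ pullback.fst x₁ x₂
    let u₂ := g₃ ≫ pullback.snd x₁ x₂
    obtain ⟨K₄, g₄, hK₄, hg₄⟩ := h4 K₃ hK₃ E' hE' (u₁ ≫ y₁) (u₂ ≫ y₂)
    let k := g₄ ≫ equalizer.ι (u₁ ≫ y₁) (u₂ ≫ y₂)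
    have hky : k ≫ u₁ ≫ y₁ = k ≫ u₂ ≫ y₂ := by
      simp only [k, Category.assoc]
      rw [equalizer.condition]
    have hkx : k ≫ u₁ ≫ x₁ = k ≫ u₂ ≫ x₂ := by
      simp only [u₁, u₂, Category.assoc]
      rw [pullback.condition]
    have hwv : (k ≫ u₁ ≫ x₁) ≫ c = (k ≫ u₁ ≫ y₁) ≫ d := by
      refine pullback.hom_ext ?_ ?_
      · simp only [Category.assoc, x₁, y₁, pullback.condition]
      · rw [hkx, hky]
        simp only [Category.assoc, x₂, y₂, pullback.condition]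
    let v : K₄ ⟶ pullback c d := pullback.lift _ _ hwv
    let πA : pullback c d ⟶ pullback (c ≫ pullback.fst a b) (d ≫ pullback.fst a b) :=
      pullback.lift (pullback.fst c d) (pullback.snd c d) (pullback.condition_assoc _)
    let πB : pullback c d ⟶ pullback (c ≫ pullback.snd a b) (d ≫ pullback.snd a b) :=
      pullback.lift (pullback.fst c d) (pullback.snd c d) (pullback.condition_assoc _)
    let p₁ := pullback.fst πA g₁
    let p₂ := pullback.fst πB g₂
    haveI : Epi p₁ := epi_pb_fst _ _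
    haveI : Epi p₂ := epi_pb_fst _ _
    let q := pullback.fst p₁ p₂
    haveI : Epi q := epi_pb_fst _ _
    let m₁ := q ≫ pullback.snd πA g₁
    let m₂ := pullback.snd p₁ p₂ ≫ pullback.snd πB g₂
    have e₁ : m₁ ≫ g₁ = q ≫ p₁ ≫ πA := by
      simp only [m₁, p₁, Category.assoc, pullback.condition]
    have e₂ : m₂ ≫ g₂ = q ≫ p₁ ≫ πB := by
      simp only [m₂, q, Category.assoc, ← pullback.condition (f := πB) (g := g₂)]
      exact (congrArg (· ≫ πB) pullback.condition).symm.trans (Category.assoc _ _ _)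
    have hm : m₁ ≫ x₁ = m₂ ≫ x₂ := by
      simp only [x₁, x₂]
      rw [← Category.assoc, ← Category.assoc, e₁, e₂]
      simp [πA, πB]
    have hm' : m₁ ≫ y₁ = m₂ ≫ y₂ := by
      simp only [y₁, y₂]
      rw [← Category.assoc, ← Category.assoc, e₁, e₂]
      simp [πA, πB]
    let ψ := pullback.lift m₁ m₂ hm
    haveI : Epi (pullback.fst ψ g₃) := epi_pb_fst _ _
    have he : pullback.snd ψ g₃ ≫ u₁ ≫ y₁ = pullback.snd ψ g₃ ≫ u₂ ≫ y₂ := by
      simp only [u₁, u₂, Category.assoc]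
      rw [← pullback.condition_assoc, ← pullback.condition_assoc]
      simp only [ψ, pullback.lift_fst_assoc, pullback.lift_snd_assoc]
      rw [hm']
    let ψ₄ := equalizer.lift (pullback.snd ψ g₃) he
    haveI : Epi (pullback.fst ψ₄ g₄) := epi_pb_fst _ _
    have hk₁ : pullback.snd ψ₄ g₄ ≫ k ≫ u₁ = pullback.fst ψ₄ g₄ ≫ pullback.fst ψ g₃ ≫ m₁ := by
      have a₁ : pullback.snd ψ₄ g₄ ≫ k = pullback.fst ψ₄ g₄ ≫ pullback.snd ψ g₃ :=
        (Category.assoc _ _ _).symm.trans ((congrArg (· ≫ equalizer.ι _ _) pullback.condition.symm).trans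
          ((Category.assoc _ _ _).trans (congrArg (_ ≫ ·) (equalizer.lift_ι _ he))))
      have a₂ : pullback.snd ψ g₃ ≫ u₁ = pullback.fst ψ g₃ ≫ m₁ :=
        (Category.assoc _ _ _).symm.trans ((congrArg (· ≫ pullback.fst x₁ x₂) pullback.condition.symm).trans
          ((Category.assoc _ _ _).trans (congrArg (_ ≫ ·) (pullback.lift_fst _ _ _))))
      exact (Category.assoc _ _ _).symm.trans ((congrArg (· ≫ u₁) a₁).trans
        ((Category.assoc _ _ _).trans (congrArg (_ ≫ ·) a₂)))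
    have hx' : m₁ ≫ x₁ = q ≫ p₁ ≫ pullback.fst c d := by
      simp only [x₁]
      rw [← Category.assoc, e₁]
      simp [πA]
    have hy' : m₁ ≫ y₁ = q ≫ p₁ ≫ pullback.snd c d := by
      simp only [y₁]
      rw [← Category.assoc, e₁]
      simp [πA]
    haveI : Epi v := epi_of_epi_fac (f := pullback.snd ψ₄ g₄)
      (h := pullback.fst ψ₄ g₄ ≫ pullback.fst ψ g₃ ≫ q ≫ p₁) (by
      apply pullback.hom_ext
      · refine (Category.assoc _ _ _).trans ((congrArg (_ ≫ ·) (pullback.lift_fst _ _ hwv)).trans ?_)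
        have h := congrArg (· ≫ x₁) hk₁
        simp only [Category.assoc] at h ⊢
        exact h.trans (congrArg (fun t => pullback.fst ψ₄ g₄ ≫ pullback.fst ψ g₃ ≫ t) hx')
      · refine (Category.assoc _ _ _).trans ((congrArg (_ ≫ ·) (pullback.lift_snd _ _ hwv)).trans ?_)
        have h := congrArg (· ≫ y₁) hk₁
        simp only [Category.assoc] at h ⊢
        exact h.trans (congrArg (fun t => pullback.fst ψ₄ g₄ ≫ pullback.fst ψ g₃ ≫ t) hy'))
    exact ⟨K₄, v, hK₄, inferInstance⟩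

section Colim

variable {Λ : Type u} [SmallCategory Λ] [IsFiltered Λ]

include h2 h5 in
/-- Maps from a covered object to a filtered colimit come from a stage. -/
lemma cov_lift {D : Λ ⥤ Sh J} {c : Cocone D} (hc : IsColimit c) {L : Sheaf J (Type u)} (hL : Cov S L)
    (t : L ⟶ c.pt) : ∃ (i : Λ) (s : L ⟶ D.obj i), s ≫ c.ι.app i = t := by
  classical
  obtain ⟨⟨E, e, hE, he⟩, hL2⟩ := hL
  obtain ⟨σ, hσ⟩ := (isQC_iff E).1 (h5 E hE) _ _ _ ((ef_colimit hc).base' (e ≫ t))
  let w₀ := Sigma.desc fun k : σ => pullback.fst (e ≫ t) (c.ι.app k.1)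
  haveI : Epi w₀ := (epi_desc_iff _).2 hσ
  obtain ⟨K', k, hK', hk⟩ := h2 _ E w₀ hE inferInstance
  obtain ⟨i, hi⟩ := IsFiltered.sup_objs_exists σ
  let ψ : ∀ m : σ, m.1 ⟶ i := fun m => (hi m.2).some
  let s₀ : K' ⟶ D.obj i := k ≫ Sigma.desc fun m : σ => pullback.snd (e ≫ t) (c.ι.app m.1) ≫ D.map (ψ m)
  let w : K' ⟶ L := k ≫ w₀ ≫ e
  haveI : Epi w := by
    rw [show w = (k ≫ w₀) ≫ e from (Category.assoc _ _ _).symm]
    exact epi_comp _ _
  have hs₀ : s₀ ≫ c.ι.app i = w ≫ t := by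
    simp only [s₀, w, w₀, Category.assoc]
    refine congrArg (k ≫ ·) (Sigma.hom_ext _ _ fun m => ?_)
    simp [pullback.condition]
  obtain ⟨K'', g, hK'', hg⟩ := hL2 K' hK' K' hK' w w
  obtain ⟨j, φ, hφ⟩ := eq_of_isQC hc (h5 K'' hK'') (g ≫ pullback.fst w w ≫ s₀) (g ≫ pullback.snd w w ≫ s₀)
    (by simp only [Category.assoc, hs₀, pullback.condition_assoc])
  have hφ' : pullback.fst w w ≫ s₀ ≫ D.map φ = pullback.snd w w ≫ s₀ ≫ D.map φ := by
    rw [← cancel_epi g]
    simpa only [Category.assoc] using hφ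
  have hef : EF (fun _ : PUnit.{1} => w) := fun Z a b h => (cancel_epi w).1 (h PUnit.unit)
  obtain ⟨r, hr⟩ := hef.glue (fun _ => s₀ ≫ D.map φ) fun _ _ => hφ'
  refine ⟨j, r, (cancel_epi w).1 ?_⟩
  rw [← Category.assoc, hr PUnit.unit, Category.assoc, c.w, hs₀]

include h2 h5 in
lemma cov_lift_Z {L : Sheaf J (Type u)} (hL : Cov S L) (D : Λ ⥤ Sheaf J AddCommGrpCat.{u})
    (t : (Z J).obj L ⟶ colimit D) : ∃ (i : Λ) (s : (Z J).obj L ⟶ D.obj i), s ≫ colimit.ι D i = t := by
  obtain ⟨i, s, hs⟩ := cov_lift h2 h5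
    (isColimitOfPreserves (sheafCompose J (forget AddCommGrpCat.{u})) (colimit.isColimit D)) hL
    ((adjZ J).homEquiv _ _ t)
  refine ⟨i, ((adjZ J).homEquiv _ _).symm s, ((adjZ J).homEquiv _ _).injective ?_⟩
  rw [Adjunction.homEquiv_naturality_right, Equiv.apply_symm_apply]
  exact hs

include h5 in
lemma cov_zero_Z {L : Sheaf J (Type u)} (hL : Cov S L) (D : Λ ⥤ Sheaf J AddCommGrpCat.{u}) (i : Λ)
    (s : (Z J).obj L ⟶ D.obj i) (h : s ≫ colimit.ι D i = 0) :
    ∃ (j : Λ) (φ : i ⟶ j), s ≫ D.map φ = 0 := by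
  obtain ⟨⟨E, e, hE, he⟩, -⟩ := hL
  haveI : PreservesColimitsOfSize.{0, 0} (Z J) := (adjZ J).leftAdjoint_preservesColimits
  haveI : Epi ((Z J).map e) := inferInstance
  obtain ⟨j, φ, hφ⟩ := CohLib.eq_zero_at_Z (h5 E hE) D i ((Z J).map e ≫ s)
    (by rw [Category.assoc, h, comp_zero])
  refine ⟨j, φ, (cancel_epi ((Z J).map e)).1 ?_⟩
  rw [comp_zero, ← Category.assoc, hφ]

end Colim

/-- The class of covered objects. -/
def goodClass (h2 : ∀ (F : Sheaf J (Type u)) (K : Sheaf J (Type u)) (g : F ⟶ K), K ∈ S → Epi g →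
      ∃ (K' : Sheaf J (Type u)) (k : K' ⟶ F), K' ∈ S ∧ Epi (k ≫ g))
    (h3 : ∀ K ∈ S, ∀ K' ∈ S, ∃ (K'' : Sheaf J (Type u)) (g : K'' ⟶ K ⨯ K'), K'' ∈ S ∧ Epi g)
    (h4 : ∀ K ∈ S, ∀ K' ∈ S, ∀ (a b : K ⟶ K'),
      ∃ (K'' : Sheaf J (Type u)) (g : K'' ⟶ equalizer a b), K'' ∈ S ∧ Epi g)
    (h5 : ∀ K ∈ S, IsQC K) : GoodClass J where
  P L := Cov S L
  of_iso {L L'} e h := by
    obtain ⟨⟨E, f, hE, hf⟩, h⟩ := h
    refine ⟨⟨E, f ≫ e.hom, hE, epi_comp _ _⟩, fun F hF F' hF' a b => ?_⟩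
    obtain ⟨K, g, hK, hg⟩ := h F hF F' hF' (a ≫ e.inv) (b ≫ e.inv)
    let φ := pullback.map (a ≫ e.inv) (b ≫ e.inv) a b (𝟙 F) (𝟙 F') e.hom (by simp) (by simp)
    exact ⟨K, g ≫ φ, hK, epi_comp _ _⟩
  cover g hg hL := cov_cover h2 h3 h4 g hg hL
  pullback a b hA hB hL := cov_pullback h3 h4 a b hA hB hL
  lift hL _ _ _ D t := cov_lift_Z h2 h5 hL D t
  zero hL _ _ _ D i s h := cov_zero_Z h5 hL D i s h

include h3 in
lemma cov_terminal (h1 : ∃ K ∈ S, Epi (terminal.from K)) : Cov S (⊤_ (Sheaf J (Type u))) := by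
  obtain ⟨K, hK, hKe⟩ := h1
  refine ⟨⟨K, terminal.from K, hK, hKe⟩, fun E hE E' hE' a b => ?_⟩
  obtain ⟨K', g, hK', hg⟩ := h3 E hE E' hE'
  let e : E ⨯ E' ≅ pullback a b :=
    { hom := pullback.lift prod.fst prod.snd (terminalIsTerminal.hom_ext _ _)
      inv := prod.lift (pullback.fst a b) (pullback.snd a b)
      hom_inv_id := by apply Limits.prod.hom_ext <;> simp
      inv_hom_id := by apply pullback.hom_ext <;> simp }
  haveI : IsIso e.hom := ⟨e.inv, e.hom_inv_id, e.inv_hom_id⟩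
  exact ⟨K', g ≫ e.hom, hK', epi_comp _ _⟩

lemma isQC_of_isQcObject {K : Sheaf J (Type u)} (h : CohCx.IsQcObject K) : IsQC K := by
  rw [isQC_iff]
  intro ι F π hπ
  rw [ef_iff_local] at hπ
  obtain ⟨t, ht⟩ := h ι F π fun U s => ⟨_, hπ U s, fun V g hg => hg⟩
  refine ⟨t, (ef_iff_local _).2 fun U y => ?_⟩
  obtain ⟨R, hR, hR'⟩ := ht U y
  exact J.superset_covering (fun V f hf => hR' V f hf) hR

/-- The constant sheaf `ℤ` is free on the final sheaf of sets. -/
theorem nonempty_constantSheaf_iso_Z :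
    Nonempty ((constantSheaf J AddCommGrpCat.{u}).obj (AddCommGrpCat.of (ULift ℤ)) ≅
      (Z J).obj (⊤_ (Sheaf J (Type u)))) := by
  let T : Cᵒᵖ ⥤ Type u := (Functor.const Cᵒᵖ).obj PUnit
  have hT : IsTerminal T := IsTerminal.ofUniqueHom
    (fun P => { app := fun _ => ↾fun _ => PUnit.unit, naturality := fun _ _ _ => rfl })
    (fun P m => rfl)
  let e₁ : (presheafToSheaf J (Type u)).obj T ≅ ⊤_ (Sheaf J (Type u)) :=
    (IsTerminal.isTerminalObj (presheafToSheaf J (Type u)) T hT).uniqueUpToIso terminalIsTerminal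
  let a : FreeAbelianGroup PUnit.{u + 1} ≃+ ULift.{u} ℤ :=
    (FreeAbelianGroup.uniqueEquiv PUnit.{u + 1}).trans AddEquiv.ulift.symm
  let e₂ : (Functor.const Cᵒᵖ).obj (AddCommGrpCat.of (ULift.{u} ℤ)) ≅ T ⋙ AddCommGrpCat.free.{u} :=
    NatIso.ofComponents (fun _ => AddEquiv.toAddCommGrpIso a.symm) (fun f => by
      refine (Category.id_comp _).trans ?_
      refine Eq.trans ?_ (congrArg (fun m => AddCommGrpCat.ofHom a.symm.toAddMonoidHom ≫ m)
        (CategoryTheory.Functor.map_id AddCommGrpCat.free.{u} PUnit.{u + 1})).symm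
      exact (Category.comp_id _).symm)
  exact ⟨(presheafToSheaf J AddCommGrpCat.{u}).mapIso e₂ ≪≫ (ZSheafifyIso J T).symm ≪≫ (Z J).mapIso e₁⟩

include h2 h3 h4 in
/-- The main theorem. -/
theorem preservesColimitsOfShape_functorH (h1 : ∃ K ∈ S, Epi (terminal.from K))
    (h5 : ∀ K ∈ S, CohCx.IsQcObject K) (Λ : Type u) [SmallCategory Λ] [IsFiltered Λ] (p : ℕ) :
    PreservesColimitsOfShape Λ (Sheaf.functorH J p : Sheaf J AddCommGrpCat.{u} ⥤ AddCommGrpCat.{u}) := by
  obtain ⟨e⟩ := nonempty_constantSheaf_iso_Z (J := J)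
  haveI : PreservesColimitsOfShape Λ ((Abelian.extFunctor.{u} p).obj
      (op ((constantSheaf J AddCommGrpCat.{u}).obj (AddCommGrpCat.of (ULift ℤ))))) :=
    FiltExtLib.preservesColimitsOfShape_ext (FiltExtLib.ExtComm.of_iso e
      (extComm_Z (goodClass h2 h3 h4 fun K hK => isQC_of_isQcObject (h5 K hK))
        (cov_terminal h3 h1) Λ p))
  refine preservesColimitsOfShape_of_natIso (F := (Abelian.extFunctor.{u} p).obj
      (op ((constantSheaf J AddCommGrpCat.{u}).obj (AddCommGrpCat.of (ULift ℤ))))) ?_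
  exact NatIso.ofComponents (fun F => Iso.refl _) (fun f => by ext x; rfl)

end OfGenerators

end Groth.Agent.QCGenColimLib
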